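import Mathlib
import Groth.Prelude.Def_W4c3ghconstell
import Groth.Prelude.Def_GLin

/-!
# Isotypic decomposition of subcomodules and the weight bookkeeping
-/

universe u v w w'

open TensorProduct

namespace Groth.Agent.GHConst

section Coalg

variable {k : Type u} {A : Type v} [Field k] [AddCommGroup A] [Module k A]

theorem mem_range_rTensor_iff {V : Type w} [AddCommGroup V] [Module k V] (W : Submodule k V)
    (x : V ⊗[k] A) :
    x ∈ LinearMap.range (W.subtype.rTensor A) ↔ W.mkQ.rTensor A x = 0 :=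
  (Module.Flat.rTensor_exact A (LinearMap.exact_subtype_mkQ W) x).symm

theorem mem_range_lTensor_iff {V : Type w} [AddCommGroup V] [Module k V] (W : Submodule k V)
    (x : A ⊗[k] V) :
    x ∈ LinearMap.range (W.subtype.lTensor A) ↔ W.mkQ.lTensor A x = 0 :=
  (Module.Flat.lTensor_exact A (LinearMap.exact_subtype_mkQ W) x).symm

theorem mem_range_rTensor_inf {V : Type w} [AddCommGroup V] [Module k V] {W W' : Submodule k V}
    {x : V ⊗[k] A} (hx : x ∈ LinearMap.range (W.subtype.rTensor A))
    (hx' : x ∈ LinearMap.range (W'.subtype.rTensor A)) :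
    x ∈ LinearMap.range ((W ⊓ W').subtype.rTensor A) := by
  obtain ⟨z, rfl⟩ := hx
  rw [mem_range_rTensor_iff, ← LinearMap.rTensor_comp_apply] at hx'
  have hex : Function.Exact (W'.comap W.subtype).subtype (W'.mkQ ∘ₗ W.subtype) := by
    rw [LinearMap.exact_iff, LinearMap.ker_comp, Submodule.ker_mkQ, Submodule.range_subtype]
  obtain ⟨t, rfl⟩ := (Module.Flat.rTensor_exact A hex z).mp hx'
  let g : ↥(W'.comap W.subtype) →ₗ[k] ↥(W ⊓ W') :=
    (W.subtype ∘ₗ (W'.comap W.subtype).subtype).codRestrict (W ⊓ W') fun c => ⟨c.1.2, c.2⟩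
  refine ⟨g.rTensor A t, ?_⟩
  rw [← LinearMap.rTensor_comp_apply, ← LinearMap.rTensor_comp_apply]
  rfl

variable [Coalgebra k A]

theorem isSubcoalg_bot : W4c3ghconstell.IsSubcoalg k A ⊥ := by
  intro d hd
  rw [(Submodule.mem_bot k).mp hd, map_zero]
  exact zero_mem _

theorem range_map_mono {C D : Submodule k A} (h : C ≤ D) :
    LinearMap.range (TensorProduct.map C.subtype C.subtype) ≤
      LinearMap.range (TensorProduct.map D.subtype D.subtype) := by
  rintro _ ⟨z, rfl⟩
  refine ⟨TensorProduct.map (Submodule.inclusion h) (Submodule.inclusion h) z, ?_⟩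
  rw [← LinearMap.comp_apply, ← TensorProduct.map_comp]
  rfl

theorem isSubcoalg_sup {C D : Submodule k A} (hC : W4c3ghconstell.IsSubcoalg k A C)
    (hD : W4c3ghconstell.IsSubcoalg k A D) : W4c3ghconstell.IsSubcoalg k A (C ⊔ D) := by
  intro x hx
  obtain ⟨c, hc, d, hd, rfl⟩ := Submodule.mem_sup.mp hx
  rw [map_add]
  exact add_mem (range_map_mono le_sup_left (hC c hc)) (range_map_mono le_sup_right (hD d hd))

theorem comul_mem_rTensor {D : Submodule k A} (hD : W4c3ghconstell.IsSubcoalg k A D) {d : A}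
    (hd : d ∈ D) : CoalgebraStruct.comul (R := k) d ∈ LinearMap.range (D.subtype.rTensor A) := by
  obtain ⟨z, hz⟩ := hD d hd
  exact ⟨D.subtype.lTensor D z, by rw [← hz, ← LinearMap.comp_apply, LinearMap.rTensor_comp_lTensor]⟩

theorem comul_mem_lTensor {D : Submodule k A} (hD : W4c3ghconstell.IsSubcoalg k A D) {d : A}
    (hd : d ∈ D) : CoalgebraStruct.comul (R := k) d ∈ LinearMap.range (D.subtype.lTensor A) := by
  obtain ⟨z, hz⟩ := hD d hd
  exact ⟨D.subtype.rTensor D z, by rw [← hz, ← LinearMap.comp_apply, LinearMap.lTensor_comp_rTensor]⟩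

theorem isSubcoalg_inf {C D : Submodule k A} (hC : W4c3ghconstell.IsSubcoalg k A C)
    (hD : W4c3ghconstell.IsSubcoalg k A D) : W4c3ghconstell.IsSubcoalg k A (C ⊓ D) := by
  intro d hd
  obtain ⟨z, hz⟩ := mem_range_rTensor_inf (comul_mem_rTensor hC hd.1) (comul_mem_rTensor hD hd.2)
  have hr : (C ⊓ D).mkQ.lTensor A (CoalgebraStruct.comul (R := k) d) = 0 := by
    rw [← mem_range_lTensor_iff]
    have hsw : ∀ (W : Submodule k A),
        CoalgebraStruct.comul (R := k) d ∈ LinearMap.range (W.subtype.lTensor A) →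
        TensorProduct.comm k A A (CoalgebraStruct.comul (R := k) d) ∈
          LinearMap.range (W.subtype.rTensor A) := fun W ⟨t, ht⟩ =>
      ⟨TensorProduct.comm k A W t, by
        rw [← ht]; simp [LinearMap.rTensor, LinearMap.lTensor, TensorProduct.map_comm]⟩
    obtain ⟨t, ht⟩ := mem_range_rTensor_inf (hsw C (comul_mem_lTensor hC hd.1))
      (hsw D (comul_mem_lTensor hD hd.2))
    refine ⟨TensorProduct.comm k _ A t, ?_⟩
    have := congrArg (TensorProduct.comm k A A) ht
    simp only [LinearMap.rTensor, LinearMap.lTensor, TensorProduct.map_comm] at this ⊢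
    rw [this]
    simp
  rw [← hz, ← LinearMap.comp_apply, LinearMap.lTensor_comp_rTensor,
    ← LinearMap.rTensor_comp_lTensor, LinearMap.comp_apply] at hr
  have h0 : (C ⊓ D).mkQ.lTensor (↥(C ⊓ D)) z = 0 :=
    Module.Flat.rTensor_preserves_injective_linearMap (M := A ⧸ (C ⊓ D)) (C ⊓ D).subtype
      (C ⊓ D).injective_subtype (by rw [hr, map_zero])
  obtain ⟨t, rfl⟩ := (Module.Flat.lTensor_exact (↥(C ⊓ D))
    (LinearMap.exact_subtype_mkQ (C ⊓ D)) z).mp h0
  exact ⟨t, by rw [← hz, ← LinearMap.comp_apply, LinearMap.rTensor_comp_lTensor]⟩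

theorem eq_bot_or_eq_of_isSubcoalg (D : W4c3ghconstell.SimpSub k A) {C : Submodule k A}
    (hC : W4c3ghconstell.IsSubcoalg k A C) : C ⊓ D.1 = ⊥ ∨ D.1 ≤ C := by
  rcases D.2.2.2 _ inf_le_right (isSubcoalg_inf hC D.2.2.1) with h | h
  · exact Or.inl h
  · exact Or.inr (inf_eq_right.mp h)

/-- A simple subcoalgebra inside a sum of two subcoalgebras lies in one of them. -/
theorem le_or_le_of_le_sup (D : W4c3ghconstell.SimpSub k A) {C C' : Submodule k A}
    (hC : W4c3ghconstell.IsSubcoalg k A C) (hC' : W4c3ghconstell.IsSubcoalg k A C')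
    (hle : D.1 ≤ C ⊔ C') : D.1 ≤ C ∨ D.1 ≤ C' := by
  rcases eq_bot_or_eq_of_isSubcoalg D hC with h | h
  swap
  · exact Or.inl h
  refine Or.inr fun d hd => ?_
  by_contra hd'
  obtain ⟨g, hg, hgC'⟩ := Submodule.exists_dual_map_eq_bot_of_notMem hd' inferInstance
  have hinj : LinearMap.ker (C.mkQ ∘ₗ D.1.subtype) = ⊥ := by
    rw [LinearMap.ker_comp, Submodule.ker_mkQ, ← Submodule.disjoint_iff_comap_eq_bot,
      disjoint_iff, inf_comm, h]
  obtain ⟨l, hl⟩ := LinearMap.exists_leftInverse_of_injective (C.mkQ ∘ₗ D.1.subtype) hinj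
  let f : A →ₗ[k] k := CoalgebraStruct.counit (R := k) ∘ₗ D.1.subtype ∘ₗ l ∘ₗ C.mkQ
  have hfC : f ∘ₗ C.subtype = 0 := LinearMap.ext fun c => by
    simp [f, (Submodule.Quotient.mk_eq_zero C).mpr c.2]
  have hfD : f ∘ₗ D.1.subtype = CoalgebraStruct.counit (R := k) ∘ₗ D.1.subtype :=
    LinearMap.ext fun x => by
      have := LinearMap.congr_fun hl x
      simp only [LinearMap.comp_apply, LinearMap.id_apply] at this
      simp only [f, LinearMap.comp_apply, this]
  have hgC : g ∘ₗ C'.subtype = 0 := LinearMap.ext fun c => by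
    have : g c ∈ C'.map g := Submodule.mem_map_of_mem c.2
    simpa [hgC'] using this
  let P := (TensorProduct.lid k k).toLinearMap ∘ₗ TensorProduct.map f g
  obtain ⟨c, hc, c', hc', hcc⟩ := Submodule.mem_sup.mp (hle hd)
  have h1 : P (CoalgebraStruct.comul (R := k) d) = 0 := by
    obtain ⟨z, hz⟩ := hC c hc
    obtain ⟨z', hz'⟩ := hC' c' hc'
    rw [← hcc, map_add, ← hz, ← hz', map_add]
    simp [P, TensorProduct.map_map, hfC, hgC]
  obtain ⟨z, hz⟩ := D.2.2.1 d hd
  have h2 : P (CoalgebraStruct.comul (R := k) d) = g d := by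
    have e1 : TensorProduct.map f g (CoalgebraStruct.comul (R := k) d) =
        g.lTensor k ((CoalgebraStruct.counit (R := k)).rTensor A
          (CoalgebraStruct.comul (R := k) d)) := by
      rw [← hz, TensorProduct.map_map, hfD, ← LinearMap.comp_apply,
        LinearMap.lTensor_comp_rTensor, TensorProduct.map_map]
    simp [P, e1]
  exact hg (h2.symm.trans h1)

theorem isSubcoalg_sup_finset (s : Finset (W4c3ghconstell.SimpSub k A)) :
    W4c3ghconstell.IsSubcoalg k A (s.sup fun D => D.1) := by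
  classical
  induction s using Finset.induction with
  | empty => exact isSubcoalg_bot
  | insert D s _ ih => rw [Finset.sup_insert]; exact isSubcoalg_sup D.2.2.1 ih

theorem mem_of_le_sup (D : W4c3ghconstell.SimpSub k A)
    (s : Finset (W4c3ghconstell.SimpSub k A)) (h : D.1 ≤ s.sup fun E => E.1) : D ∈ s := by
  classical
  induction s using Finset.induction with
  | empty => exact absurd (le_bot_iff.mp (by simpa using h)) D.2.1
  | insert E s _ ih =>
    rw [Finset.sup_insert] at h
    rcases le_or_le_of_le_sup D E.2.2.1 (isSubcoalg_sup_finset s) h with h' | h'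
    · rcases E.2.2.2 D.1 h' D.2.2.1 with h'' | h''
      · exact absurd h'' D.2.1
      · exact Finset.mem_insert.mpr (Or.inl (Subtype.ext h''))
    · exact Finset.mem_insert_of_mem (ih h')

variable {M : Type w'} [AddCommGroup M] [Module k M] [HopfRep.Comod k A M]

theorem isSubcomod_inf {W W' : Submodule k M} (hW : HopfRep.IsSubcomod (k := k) (A := A) W)
    (hW' : HopfRep.IsSubcomod (k := k) (A := A) W') :
    HopfRep.IsSubcomod (k := k) (A := A) (W ⊓ W') :=
  fun w hw => mem_range_rTensor_inf (hW w hw.1) (hW' w hw.2)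

theorem isSubcomod_isoComp (D : W4c3ghconstell.SimpSub k A) :
    HopfRep.IsSubcomod (k := k) (A := A) (W4c3ghconstell.isoComp M D.1) := by
  intro m hm
  let ρ : M →ₗ[k] M ⊗[k] A := HopfRep.Comod.coact (k := k) (A := A)
  let φ := D.1.mkQ.lTensor M ∘ₗ ρ
  have hker : LinearMap.ker φ = W4c3ghconstell.isoComp M D.1 := by
    ext x
    exact Module.Flat.lTensor_exact M (LinearMap.exact_subtype_mkQ D.1) (ρ x)
  obtain ⟨z, hz⟩ := hm
  have hco : ρ.rTensor A (ρ m) = (TensorProduct.assoc k M A A).symm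
      ((CoalgebraStruct.comul (R := k) (A := A)).lTensor M (ρ m)) := by
    rw [LinearEquiv.eq_symm_apply]
    exact LinearMap.congr_fun (HopfRep.Comod.coassoc (k := k) (A := A) (V := M)) m
  have hzero : (D.1.mkQ.lTensor M).rTensor A ∘ₗ (TensorProduct.assoc k M A A).symm.toLinearMap ∘ₗ
      (CoalgebraStruct.comul (R := k) (A := A)).lTensor M ∘ₗ D.1.subtype.lTensor M = 0 := by
    refine TensorProduct.ext' fun x d => ?_
    obtain ⟨t, ht⟩ := comul_mem_rTensor D.2.2.1 d.2
    simp only [LinearMap.comp_apply, LinearEquiv.coe_coe, LinearMap.lTensor_tmul,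
      LinearMap.zero_apply, Submodule.coe_subtype, ← ht]
    clear ht
    induction t using TensorProduct.induction_on with
    | zero => simp
    | tmul p q => simp [(Submodule.Quotient.mk_eq_zero D.1).mpr p.2]
    | add p q hp hq => simp only [map_add, tmul_add, hp, hq, add_zero]
  have hφ : φ.rTensor A (ρ m) = 0 := by
    rw [LinearMap.rTensor_comp_apply, hco, show ρ m = _ from hz.symm]
    exact LinearMap.congr_fun hzero z
  obtain ⟨t, ht⟩ := (Module.Flat.rTensor_exact A φ.exact_subtype_ker_map (ρ m)).mp hφ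
  refine ⟨(LinearEquiv.ofEq _ _ hker).toLinearMap.rTensor A t, ?_⟩
  rw [← LinearMap.rTensor_comp_apply]
  exact ht

/-- A subcomodule is the sum of its isotypic parts. -/
theorem eq_iSup_inf_isoComp (htop : (⨆ D : W4c3ghconstell.SimpSub k A,
      W4c3ghconstell.isoComp M D.1) = ⊤)
    {N : Submodule k M} (hN : HopfRep.IsSubcomod (k := k) (A := A) N) :
    N = ⨆ D : W4c3ghconstell.SimpSub k A, N ⊓ W4c3ghconstell.isoComp M D.1 := by
  classical
  refine le_antisymm (fun u hu => ?_) (iSup_le fun _ => inf_le_left)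
  obtain ⟨s, hs⟩ := Submodule.exists_finset_of_mem_iSup _ (htop.ge (Submodule.mem_top (x := u)))
  obtain ⟨μ, hμ⟩ := (Submodule.mem_iSup_finset_iff_exists_sum _ u).mp hs
  rw [← hμ]
  refine Submodule.sum_mem _ fun i hi => Submodule.mem_iSup_of_mem i ⟨?_, (μ i).2⟩
  let W := (s.erase i).sup fun E : W4c3ghconstell.SimpSub k A => E.1
  have hinj : LinearMap.ker (W.mkQ ∘ₗ i.1.subtype) = ⊥ := by
    rw [LinearMap.ker_comp, Submodule.ker_mkQ, ← Submodule.disjoint_iff_comap_eq_bot]
    rcases eq_bot_or_eq_of_isSubcoalg i (isSubcoalg_sup_finset (s.erase i)) with h | h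
    · exact disjoint_iff.mpr (by rw [inf_comm]; exact h)
    · exact absurd (mem_of_le_sup i _ h) (Finset.notMem_erase i s)
  obtain ⟨l, hl⟩ := LinearMap.exists_leftInverse_of_injective (W.mkQ ∘ₗ i.1.subtype) hinj
  let e : A →ₗ[k] k := CoalgebraStruct.counit (R := k) ∘ₗ i.1.subtype ∘ₗ l ∘ₗ W.mkQ
  let E : M →ₗ[k] M := (TensorProduct.rid k M).toLinearMap ∘ₗ e.lTensor M ∘ₗ
    HopfRep.Comod.coact (k := k) (A := A)
  have hE : ∀ j ∈ s, E (μ j) = if j = i then (μ j : M) else 0 := by
    intro j hj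
    obtain ⟨z, hz⟩ := (μ j).2
    split_ifs with h
    · subst h
      have he : e ∘ₗ j.1.subtype = CoalgebraStruct.counit (R := k) ∘ₗ j.1.subtype :=
        LinearMap.ext fun x => by
          have := LinearMap.congr_fun hl x
          simp only [LinearMap.comp_apply, LinearMap.id_apply] at this
          simp only [e, LinearMap.comp_apply, this]
      have hc := LinearMap.congr_fun (HopfRep.Comod.counit_comp (k := k) (A := A) (V := M)) (μ j : M)
      simp only [LinearMap.comp_apply, LinearMap.flip_apply, TensorProduct.mk_apply, ← hz,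
        ← LinearMap.lTensor_comp_apply, ← he] at hc
      simp only [E, LinearMap.comp_apply, LinearEquiv.coe_coe, ← hz,
        ← LinearMap.lTensor_comp_apply, hc]
      simp
    · have he : e ∘ₗ j.1.subtype = 0 := LinearMap.ext fun x => by
        have : (x : A) ∈ W := Finset.le_sup (f := fun E : W4c3ghconstell.SimpSub k A => E.1)
          (Finset.mem_erase.mpr ⟨h, hj⟩) x.2
        simp [e, (Submodule.Quotient.mk_eq_zero W).mpr this]
      simp only [E, LinearMap.comp_apply, LinearEquiv.coe_coe, ← hz,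
        ← LinearMap.lTensor_comp_apply, he, LinearMap.lTensor_zero, LinearMap.zero_apply, map_zero]
  have hEu : E u = μ i := by
    rw [← hμ, map_sum, Finset.sum_congr rfl hE, Finset.sum_ite_eq' s i, if_pos hi]
  rw [← hEu]
  obtain ⟨t, ht⟩ := hN u hu
  have : ∀ t : ↥N ⊗[k] A, (TensorProduct.rid k M) (e.lTensor M (N.subtype.rTensor A t)) ∈ N := by
    intro t
    induction t using TensorProduct.induction_on with
    | zero => simp
    | tmul p q => simpa using N.smul_mem (e q) p.2
    | add p q hp hq => simpa only [map_add] using N.add_mem hp hq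
  simpa [E, ← ht] using this t

end Coalg

section Weight

variable {k : Type u} {A : Type v} [Field k] [CommRing A] [Bialgebra k A]
variable {R : Type w} [CommRing R] [Algebra k R]
variable {M : Type w'} [AddCommGroup M] [Module k M] [Module R M] [IsScalarTower k R M]
  [HopfRep.Comod k A M]

theorem genIn_le (S : Set (W4c3ghconstell.SimpSub k A)) (N : Submodule R M) :
    W4c3ghconstell.genIn k A R M S N ≤ N :=
  Submodule.span_le.mpr (Set.iUnion₂_subset fun _ _ => fun _ hx => hx.1)

theorem inf_le_genIn {S : Set (W4c3ghconstell.SimpSub k A)} {D : W4c3ghconstell.SimpSub k A}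
    (hD : D ∈ S) (N : Submodule R M) :
    N.restrictScalars k ⊓ W4c3ghconstell.isoComp M D.1 ≤
      (W4c3ghconstell.genIn k A R M S N).restrictScalars k :=
  fun _ hx => Submodule.subset_span (Set.mem_biUnion hD hx)

theorem genIn_genIn (S : Set (W4c3ghconstell.SimpSub k A)) (N : Submodule R M) :
    W4c3ghconstell.genIn k A R M S (W4c3ghconstell.genIn k A R M S N) =
      W4c3ghconstell.genIn k A R M S N :=
  le_antisymm (genIn_le _ _) (Submodule.span_le.mpr (Set.iUnion₂_subset fun _ hD => fun _ hx =>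
    Submodule.subset_span (Set.mem_biUnion hD ⟨inf_le_genIn hD N hx, hx.2⟩)))

theorem restrictScalars_inf_genIn {S : Set (W4c3ghconstell.SimpSub k A)}
    {D : W4c3ghconstell.SimpSub k A} (hD : D ∈ S) (N : Submodule R M) :
    (W4c3ghconstell.genIn k A R M S N).restrictScalars k ⊓ W4c3ghconstell.isoComp M D.1 =
      N.restrictScalars k ⊓ W4c3ghconstell.isoComp M D.1 :=
  le_antisymm (inf_le_inf_right _ fun _ hx => genIn_le S N hx)
    (le_inf (inf_le_genIn hD N) inf_le_right)

theorem isSubcomod_genIn [HopfRep.Comod k A R] [TameAct.IsHopfMod k A R M]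
    (S : Set (W4c3ghconstell.SimpSub k A)) {N : Submodule R M}
    (hN : HopfRep.IsSubcomod (k := k) (A := A) (N.restrictScalars k)) :
    HopfRep.IsSubcomod (k := k) (A := A)
      ((W4c3ghconstell.genIn k A R M S N).restrictScalars k) := by
  intro m hm
  induction hm using Submodule.span_induction with
  | zero => rw [map_zero]; exact zero_mem _
  | add a b _ _ ha hb => rw [map_add]; exact add_mem ha hb
  | mem x hx =>
    obtain ⟨D, hD, hxD⟩ := Set.mem_iUnion₂.mp hx
    obtain ⟨t, ht⟩ := isSubcomod_inf hN (isSubcomod_isoComp D) x hxD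
    refine ⟨(Submodule.inclusion (inf_le_genIn hD N)).rTensor A t, ?_⟩
    rw [← ht, ← LinearMap.rTensor_comp_apply]
    rfl
  | smul r a _ ha =>
    obtain ⟨z, hz⟩ := ha
    rw [TameAct.IsHopfMod.coact_smul, ← hz]
    generalize HopfRep.Comod.coact (k := k) (A := A) r = y
    clear hz
    induction y using TensorProduct.induction_on with
    | zero => simp
    | add p q hp hq => simpa only [map_add, LinearMap.add_apply] using add_mem hp hq
    | tmul b c =>
      induction z using TensorProduct.induction_on with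
      | zero => simp
      | add p q hp hq => simpa only [map_add] using add_mem hp hq
      | tmul p q => exact ⟨⟨b • (p : M), Submodule.smul_mem _ b p.2⟩ ⊗ₜ (c * q), by simp⟩

variable {h : W4c3ghconstell.SimpSub k A → ℕ}
variable (hM : W4c3ghconstell.IsConstellation k A R M h)
include hM

theorem hilbAt_le (N : Submodule k M) (D : W4c3ghconstell.SimpSub k A) :
    W4c3ghconstell.hilbAt M N D ≤ h D := by
  haveI := (hM.2.2 D).1
  rw [← (hM.2.2 D).2]
  exact Submodule.finrank_mono inf_le_right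

theorem hilbAt_top (D : W4c3ghconstell.SimpSub k A) :
    W4c3ghconstell.hilbAt M (⊤ : Submodule k M) D = h D := by
  rw [← (hM.2.2 D).2]
  unfold W4c3ghconstell.hilbAt
  rw [top_inf_eq]

theorem hilbAt_mono {N N' : Submodule k M} (hle : N ≤ N') (D : W4c3ghconstell.SimpSub k A) :
    W4c3ghconstell.hilbAt M N D ≤ W4c3ghconstell.hilbAt M N' D := by
  haveI := (hM.2.2 D).1
  haveI : Module.Finite k ↥(N' ⊓ W4c3ghconstell.isoComp M D.1) :=
    Submodule.finiteDimensional_of_le inf_le_right
  exact Submodule.finrank_mono (inf_le_inf_right _ hle)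

theorem isoComp_le_of_hilbAt {N : Submodule k M} {D : W4c3ghconstell.SimpSub k A}
    (hD : h D ≤ W4c3ghconstell.hilbAt M N D) : W4c3ghconstell.isoComp M D.1 ≤ N := by
  haveI := (hM.2.2 D).1
  refine inf_eq_right.mp (Submodule.eq_of_le_of_finrank_le inf_le_right ?_)
  rw [(hM.2.2 D).2]
  exact hD

theorem hilbAt_eq_zero {N : Submodule k M} {D : W4c3ghconstell.SimpSub k A}
    (hD : W4c3ghconstell.hilbAt M N D = 0) : N ⊓ W4c3ghconstell.isoComp M D.1 = ⊥ := by
  haveI := (hM.2.2 D).1
  haveI : Module.Finite k ↥(N ⊓ W4c3ghconstell.isoComp M D.1) :=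
    Submodule.finiteDimensional_of_le inf_le_right
  exact Submodule.finrank_eq_zero.mp hD

theorem eq_top_of_forall_le {N : Submodule R M}
    (hN : ∀ D : W4c3ghconstell.SimpSub k A,
      W4c3ghconstell.isoComp M D.1 ≤ N.restrictScalars k) : N = ⊤ := by
  refine eq_top_iff.mpr fun x _ => ?_
  exact (iSup_le hN : (⨆ D, _) ≤ N.restrictScalars k) (hM.2.1.ge Submodule.mem_top)

variable {θ : W4c3ghconstell.SimpSub k A → ℚ}
variable (hsum : HasSum (fun D => (θ D : ℝ) * (h D : ℝ)) 0)
include hsum

theorem theta_top : W4c3ghconstell.theta M θ (⊤ : Submodule k M) = 0 := by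
  unfold W4c3ghconstell.theta
  simp only [hilbAt_top hM]
  exact hsum.tsum_eq

theorem hasSum_theta (N : Submodule k M) :
    HasSum (fun D => (θ D : ℝ) * (W4c3ghconstell.hilbAt M N D : ℝ))
      (W4c3ghconstell.theta M θ N) := by
  refine (Summable.of_norm_bounded hsum.summable.abs fun D => ?_).hasSum
  rw [Real.norm_eq_abs, abs_mul, abs_mul]
  refine mul_le_mul_of_nonneg_left ?_ (abs_nonneg _)
  rw [Nat.abs_cast, Nat.abs_cast]
  exact_mod_cast hilbAt_le hM N D

/-- Passing to the part generated in negative weights does not increase the weight. -/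
theorem theta_genIn_le (N : Submodule R M) :
    W4c3ghconstell.theta M θ
        ((W4c3ghconstell.genIn k A R M {D | θ D < 0} N).restrictScalars k) ≤
      W4c3ghconstell.theta M θ (N.restrictScalars k) := by
  refine hasSum_le (fun D => ?_) (hasSum_theta hM hsum _) (hasSum_theta hM hsum _)
  by_cases hD : θ D < 0
  · refine le_of_eq ?_
    unfold W4c3ghconstell.hilbAt
    rw [restrictScalars_inf_genIn (show D ∈ {D | θ D < 0} from hD) N]
  · refine mul_le_mul_of_nonneg_left ?_ (by exact_mod_cast not_lt.mp hD)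
    exact_mod_cast hilbAt_mono hM (fun _ hx => genIn_le _ N hx) D

/-- A submodule containing all negative components has weight `≤ 0`, with equality only if it
contains all components of non-zero weight. -/
theorem theta_le_zero {N : Submodule k M}
    (hN : ∀ D, θ D < 0 → W4c3ghconstell.isoComp M D.1 ≤ N) :
    W4c3ghconstell.theta M θ N ≤ 0 ∧
      (0 ≤ W4c3ghconstell.theta M θ N →
        ∀ D, θ D ≠ 0 → W4c3ghconstell.isoComp M D.1 ≤ N) := by
  have hle : ∀ D, (θ D : ℝ) * (W4c3ghconstell.hilbAt M N D : ℝ) ≤ (θ D : ℝ) * (h D : ℝ) := by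
    intro D
    by_cases hD : θ D < 0
    · refine le_of_eq ?_
      unfold W4c3ghconstell.hilbAt
      rw [inf_eq_right.mpr (hN D hD), (hM.2.2 D).2]
    · refine mul_le_mul_of_nonneg_left ?_ (by exact_mod_cast not_lt.mp hD)
      exact_mod_cast hilbAt_le hM N D
  refine ⟨hasSum_le hle (hasSum_theta hM hsum N) hsum, fun h0 D hD => ?_⟩
  by_cases hneg : θ D < 0
  · exact hN D hneg
  refine isoComp_le_of_hilbAt hM (not_lt.mp fun hlt => ?_)
  have hpos : (0 : ℝ) < θ D := by exact_mod_cast lt_of_le_of_ne (not_lt.mp hneg) (Ne.symm hD)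
  have := hasSum_lt hle (mul_lt_mul_of_pos_left (Nat.cast_lt.mpr hlt) hpos)
    (hasSum_theta hM hsum N) hsum
  linarith

/-- A non-zero subcomodule without negative part has positive weight. -/
theorem theta_pos_of_inf_eq_bot {N : Submodule k M}
    (hsub : HopfRep.IsSubcomod (k := k) (A := A) N)
    (hne : N ≠ ⊥) (hθ : ∀ D, h D ≠ 0 → θ D ≠ 0)
    (hN : ∀ D, θ D < 0 → N ⊓ W4c3ghconstell.isoComp M D.1 = ⊥) :
    0 < W4c3ghconstell.theta M θ N := by
  obtain ⟨D, hD⟩ : ∃ D : W4c3ghconstell.SimpSub k A, W4c3ghconstell.hilbAt M N D ≠ 0 := by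
    by_contra hall
    push Not at hall
    apply hne
    rw [eq_iSup_inf_isoComp hM.2.1 hsub]
    simp only [hilbAt_eq_zero hM (hall _), iSup_bot]
  have hnn : ∀ E, 0 ≤ (θ E : ℝ) * (W4c3ghconstell.hilbAt M N E : ℝ) := by
    intro E
    by_cases hE : θ E < 0
    · unfold W4c3ghconstell.hilbAt
      rw [hN E hE, finrank_bot, Nat.cast_zero, mul_zero]
    · exact mul_nonneg (by exact_mod_cast not_lt.mp hE) (Nat.cast_nonneg _)
  have hθD : θ D ≠ 0 := hθ D fun h0 => hD (Nat.le_zero.mp (h0 ▸ hilbAt_le hM N D))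
  refine hasSum_lt (f := fun _ => (0 : ℝ)) hnn (i := D) ?_ hasSum_zero (hasSum_theta hM hsum N)
  exact lt_of_le_of_ne (hnn D) (Ne.symm (mul_ne_zero (Rat.cast_ne_zero.mpr hθD)
    (Nat.cast_ne_zero.mpr hD)))

end Weight

end Groth.Agent.GHConst
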